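import Cfsg.Agent.Lib.InvChar.HallJankoSylow.Three
import Mathlib.GroupTheory.SpecificGroups.Cyclic

/-!
The Sylow `7`-subgroups of a group of Hall–Janko type.
-/

set_option autoImplicit false
set_option linter.style.haveILetI false
set_option linter.unusedSectionVars false

open Cfsg

namespace CfsgLib.InvChar.HJSylow.Setting

variable {G : Type*} [Group G] [Finite G] {z t : G} {Q : Subgroup G} (S : Setting z t Q)
include S

/-- No element of order two or three centralizes an element of order seven. -/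
theorem not_dvd_cent_seven {d : G} (hd : orderOf d = 7) :
    ¬ 2 ∣ Nat.card (cent d) ∧ ¬ 3 ∣ Nat.card (cent d) := by
  haveI : Fact (Nat.Prime 2) := ⟨Nat.prime_two⟩
  haveI : Fact (Nat.Prime 3) := ⟨Nat.prime_three⟩
  have key : ∀ x : G, x ∈ cent d → 7 ∣ Nat.card (cent x) := fun x hx =>
    hd ▸ Subgroup.orderOf_dvd_natCard _ (comm_of_mem_cent hx)
  refine ⟨fun h2 => ?_, fun h3 => ?_⟩
  · obtain ⟨x, hx⟩ := exists_prime_orderOf_dvd_card' (G := cent d) 2 h2
    have hx2 : orderOf (x : G) = 2 := by rw [Subgroup.orderOf_coe]; exact hx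
    have h7 := key x x.2
    rcases S.cls _ hx2 with h | h <;> obtain ⟨g, hg⟩ := isConj_iff.1 h
    · rw [← hg, card_cent_conj, S.card_cent_z] at h7
      norm_num at h7
    · rw [← hg, card_cent_conj, S.card_cent_t] at h7
      norm_num at h7
  · obtain ⟨x, hx⟩ := exists_prime_orderOf_dvd_card' (G := cent d) 3 h3
    have hx3 : orderOf (x : G) = 3 := by rw [Subgroup.orderOf_coe]; exact hx
    have h7 := key x x.2
    obtain ⟨w, hwz, hw⟩ := S.exists_three (Or.inl rfl)
    obtain ⟨y, hyt, hy⟩ := S.exists_three (Or.inr rfl)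
    rcases S.three_classes hw hwz hy hyt hx3 with h | h <;> obtain ⟨g, hg⟩ := isConj_iff.1 h.symm
    · rw [← hg, card_cent_conj, (S.cent_three hw hwz).1] at h7
      norm_num at h7
    · rw [← hg, card_cent_conj] at h7
      rcases S.t_cases (Or.inl rfl) hy hyt with h' | h' | ⟨φ, hφ, hk⟩
      · rw [h'] at h7; norm_num at h7
      · rw [h'] at h7; norm_num at h7
      · rw [S.card_of_hom hy hφ hk, card_alt_five] at h7
        norm_num at h7

/-- The Sylow `7`-subgroups. -/
theorem seven_main (D : Sylow 7 G) :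
    Subgroup.centralizer ((D : Subgroup G) : Set G) = D ∧
    Nat.card (Subgroup.normalizer ((D : Subgroup G) : Set G)) = 42 ∧
    ¬ IsMulCommutative (Subgroup.normalizer ((D : Subgroup G) : Set G)) := by
  classical
  haveI : Fact (Nat.Prime 7) := ⟨by norm_num⟩
  haveI : Fact (Nat.Prime 5) := ⟨Nat.prime_five⟩
  have hD7 : Nat.card (D : Subgroup G) = 7 :=
    (sylow_card (k := 1) (m := 86400) D (by rw [S.card]; norm_num) (by norm_num)).trans (pow_one 7)
  obtain ⟨d', hd'⟩ := exists_prime_orderOf_dvd_card' (G := (D : Subgroup G)) 7 (by rw [hD7])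
  have hd : orderOf (d' : G) = 7 := by rw [Subgroup.orderOf_coe]; exact hd'
  have hd1 : (d' : G) ≠ 1 := fun h => by rw [h, orderOf_one] at hd; omega
  have hzp : Subgroup.zpowers (d' : G) = (D : Subgroup G) :=
    zpowers_eq_of_card (by norm_num) hD7 d'.2 hd1
  obtain ⟨h2, h3⟩ := S.not_dvd_cent_seven hd
  have hcent : Subgroup.centralizer ((D : Subgroup G) : Set G) = cent (d' : G) := by
    ext a
    rw [Subgroup.mem_centralizer_iff, mem_cent]
    refine ⟨fun h => (h _ d'.2).symm, fun h x hx => ?_⟩
    obtain ⟨i, rfl⟩ := hzp.ge hx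
    exact ((show Commute a (d' : G) from h).zpow_right i).eq.symm
  rw [hcent]
  set M := cent (d' : G) with hM
  set N := Subgroup.normalizer ((D : Subgroup G) : Set G) with hN
  have hDM : (D : Subgroup G) ≤ M := by rw [← hzp]; exact Subgroup.zpowers_le.2 (self_mem_cent _)
  -- the order of the centralizer
  have hdvd : Nat.card M ∣ 7 * 25 := by
    have hG : Nat.card M ∣ 3456 * (7 * 25) := by
      have h := Subgroup.card_subgroup_dvd_card M
      rwa [S.card] at h
    refine Nat.Coprime.dvd_of_dvd_mul_left ?_ hG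
    rw [show 3456 = 2 ^ 7 * 3 ^ 3 from rfl]
    exact Nat.Coprime.mul_right ((Nat.prime_two.coprime_iff_not_dvd.2 h2).symm.pow_right 7)
      ((Nat.prime_three.coprime_iff_not_dvd.2 h3).symm.pow_right 3)
  obtain ⟨k, hk⟩ : 7 ∣ Nat.card M := hD7 ▸ Subgroup.card_dvd_of_le hDM
  have hk25 : k ∣ 5 ^ 2 := by
    rw [hk] at hdvd
    exact (Nat.mul_dvd_mul_iff_left (by norm_num : 0 < 7)).1 hdvd
  have hk5 : k = 1 ∨ k = 5 := by
    obtain ⟨i, hi, rfl⟩ := (Nat.dvd_prime_pow Nat.prime_five).1 hk25
    interval_cases i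
    · exact Or.inl rfl
    · exact Or.inr rfl
    · exfalso
      obtain ⟨P⟩ : Nonempty (Sylow 5 M) := inferInstance
      have hP : Nat.card ((P : Subgroup M).map M.subtype) = 25 := by
        rw [Subgroup.card_map_of_injective M.subtype_injective]
        exact (sylow_card (k := 2) (m := 7) P (by rw [hk]; ring) (by norm_num)).trans (by norm_num)
      let P' : Sylow 5 G := (IsPGroup.of_card (n := 2) (hP.trans (by norm_num)) :
        IsPGroup 5 ↥((P : Subgroup M).map M.subtype)).toSylow (by
          have := ((P : Subgroup M).map M.subtype).card_mul_index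
          rw [hP, S.card] at this
          omega)
      have hcP := (S.five_main P').1
      have hdm : (d' : G) ∈ Subgroup.centralizer ((P' : Subgroup G) : Set G) := by
        refine Subgroup.mem_centralizer_iff.2 ?_
        rintro _ ⟨a, -, rfl⟩
        exact mem_cent.1 a.2
      rw [hcP] at hdm
      have := Subgroup.orderOf_dvd_natCard _ hdm
      rw [hd, (S.five_main P').2.1] at this
      norm_num at this
  -- the normalizer
  have he6 : ((M ⊓ N).subgroupOf N).index ∣ 6 := by
    have hker : (Subgroup.normalizerMonoidHom (D : Subgroup G)).ker = (M ⊓ N).subgroupOf N := by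
      rw [Subgroup.normalizerMonoidHom_ker, hcent]
      ext a
      exact ⟨fun h => ⟨h, a.2⟩, fun h => h.1⟩
    rw [← hker, Subgroup.index_ker]
    haveI : IsCyclic (D : Subgroup G) := isCyclic_of_prime_card (p := 7) hD7
    have h6 : Nat.card (MulAut (D : Subgroup G)) = 6 := by
      rw [Nat.card_congr (IsCyclic.mulAutMulEquiv (D : Subgroup G)).symm.toEquiv.symm, hD7,
        Nat.card_eq_fintype_card, ZMod.card_units]
    exact h6 ▸ Subgroup.card_subgroup_dvd_card _
  have hMN : M ≤ N := hcent ▸ Subgroup.centralizer_le_normalizer _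
  have hcardN := ((M ⊓ N).subgroupOf N).card_mul_index
  rw [Nat.card_congr (Subgroup.subgroupOfEquivOfLe inf_le_right).toEquiv, inf_eq_left.2 hMN, hk] at hcardN
  rw [inf_eq_left.2 hMN] at he6
  generalize (M.subgroupOf N).index = e at he6 hcardN
  obtain ⟨n, hn7, hcount⟩ := exists_count (p := 7) (k := 1) (le_top : (D : Subgroup G) ≤ ⊤)
    (by rw [hD7, pow_one]) (by rw [Subgroup.card_top, S.card]; norm_num)
  rw [Subgroup.card_top, S.card, top_inf_eq, ← hN, ← hcardN] at hcount
  have hmod : k * e % 7 = 6 := by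
    have h : k * e * n = 86400 := by
      rw [mul_assoc 7 k e, mul_assoc 7 (k * e) n] at hcount
      omega
    have h' := Nat.mul_mod (k * e) n 7
    rw [h, hn7, mul_one] at h'
    omega
  have hle6 := Nat.le_of_dvd (by norm_num) he6
  obtain ⟨rfl, rfl⟩ : k = 1 ∧ e = 6 := by
    rcases hk5 with rfl | rfl <;> interval_cases e <;> omega
  have hMD : M = (D : Subgroup G) := (Subgroup.eq_of_le_of_card_ge hDM (by omega)).symm
  refine ⟨hMD, by omega, fun hcomm => ?_⟩
  have hNM : N ≤ M := by
    intro a ha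
    exact mem_cent.2 (congrArg Subtype.val
      (hcomm.is_comm.comm ⟨a, ha⟩ ⟨(d' : G), Subgroup.le_normalizer d'.2⟩))
  have h := Subgroup.card_le_of_le hNM
  omega

end CfsgLib.InvChar.HJSylow.Setting
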