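import Cfsg.Prelude.Def_Classical
import Cfsg.Agent.Lib.InvChar.HallJankoSylow.Seven
import Cfsg.Agent.Lib.ClassK.FStarCentralizer
import Cfsg.Agent.S0824
import Mathlib.GroupTheory.SpecificGroups.Alternating.Centralizer

/-!
The part of the Hall–Janko data that is read off from the centralizer of `z`.
-/

set_option autoImplicit false
set_option linter.style.haveILetI false

open Cfsg

namespace CfsgLib.InvChar.HJSylow

variable {G : Type*} [Group G] [Finite G]

/-- The commutator subgroup of the isometry group of the elliptic form is `A₅`. -/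
theorem omegaMinus_iso :
    Nonempty (Cfsg.Omega (ZMod 2) (Cfsg.quadFormMinus 1 (ZMod 2) 1 1) ≃*
      alternatingGroup (Fin 5)) := by
  obtain ⟨e⟩ := Cfsg.Agent.S0824.result (F := ZMod 2) (ZMod.card 2)
  have h : (commutator (Cfsg.isometryGroup (ZMod 2) (Cfsg.quadFormMinus 1 (ZMod 2) 1 1))).map
      e.toMonoidHom = alternatingGroup (Fin 5) := by
    rw [commutator_def, Subgroup.map_commutator, Subgroup.map_top_of_surjective _ e.surjective,
      ← commutator_def]
    exact alternatingGroup.commutator_perm_eq (by rw [Nat.card_fin])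
  exact ⟨((Subgroup.equivMapOfInjective _ e.toMonoidHom e.injective).trans
    (MulEquiv.subgroupCongr h))⟩

/-- The local data. -/
theorem local_data (z : G) (Q : Subgroup (Subgroup.centralizer ({z} : Set G))) [Q.Normal]
    (hF : Cfsg.generalizedFittingSubgroup (Subgroup.centralizer ({z} : Set G)) = Q)
    (hQ : Cfsg.IsExtraspecial 2 Q) (hcard : Nat.card Q = 2 ^ 5)
    (e : (Subgroup.centralizer ({z} : Set G)) ⧸ Q ≃*
      Cfsg.Omega (ZMod 2) (Cfsg.quadFormMinus 1 (ZMod 2) 1 1)) :
    ∀ Q' : Subgroup G, Q' = Q.map (Subgroup.centralizer ({z} : Set G)).subtype →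
      Q' ≤ cent z ∧ (∀ c ∈ cent z, ∀ q ∈ Q', c * q * c⁻¹ ∈ Q') ∧ IsExtraspecial 2 Q' ∧
      Nat.card Q' = 32 ∧ z ∈ Q' ∧ cent z ⊓ Subgroup.centralizer (Q' : Set G) ≤ Q' ∧
      ∃ φ : cent z →* alternatingGroup (Fin 5),
        Function.Surjective φ ∧ ∀ c : cent z, φ c = 1 ↔ (c : G) ∈ Q' := by
  intro Q' hQ'
  subst hF
  subst hQ'
  obtain ⟨e'⟩ := omegaMinus_iso
  refine ⟨Subgroup.map_subtype_le _, fun c hc q hq => ClassK.conj_mem_fStarCentralizer hc hq,
    ClassK.isExtraspecial_fStarCentralizer hQ, ?_, ClassK.mem_fStarCentralizer_self z,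
    inf_le_right.trans (ClassK.centralizer_fStarCentralizer_le z), ?_⟩
  · rw [Subgroup.card_map_of_injective (Subgroup.subtype_injective _), hcard]
    norm_num
  · refine ⟨(e.trans e').toMonoidHom.comp (QuotientGroup.mk' _),
      (e.trans e').surjective.comp (QuotientGroup.mk'_surjective _), fun c => ?_⟩
    change (e.trans e') (QuotientGroup.mk' _ c) = 1 ↔ _
    rw [MulEquiv.map_eq_one_iff]
    refine (QuotientGroup.eq_one_iff c).trans ⟨fun h => ⟨c, h, rfl⟩, ?_⟩
    rintro ⟨d, hd, hdc⟩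
    rwa [Subtype.ext hdc] at hd

end CfsgLib.InvChar.HJSylow
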