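import Cfsg.Agent.Lib.InvChar.HallJankoSylow.ThreeCent
import Cfsg.Agent.Lib.Alperin.OrderFour
import Cfsg.Agent.Lib.PGroups.Extraspecial

/-!
The Sylow `3`-subgroups and the elements of order three in groups of Hall–Janko type.
-/

set_option autoImplicit false
set_option linter.style.haveILetI false
set_option linter.unusedSectionVars false

open Cfsg

namespace CfsgLib.InvChar.HJSylow.Setting

variable {G : Type*} [Group G] [Finite G] {z t : G} {Q : Subgroup G} (S : Setting z t Q)
include S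

theorem exists_three {x : G} (hx : x = z ∨ x = t) : ∃ a ∈ cent x, orderOf a = 3 := by
  haveI : Fact (Nat.Prime 3) := ⟨Nat.prime_three⟩
  obtain ⟨a, ha⟩ := exists_prime_orderOf_dvd_card' (G := cent x) 3 (by
    rcases hx with rfl | rfl
    · rw [S.card_cent_z]; norm_num
    · rw [S.card_cent_t]; norm_num)
  exact ⟨a, a.2, by rw [Subgroup.orderOf_coe]; exact ha⟩

/-- A Sylow `3`-subgroup inside the centralizer of an element of order three commuting with
`z`. -/
theorem three_local {w : G} (hw : orderOf w = 3) (hc : w ∈ cent z) :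
    ∃ R : Subgroup G, Nat.card R = 27 ∧ IsExtraspecial 3 R ∧ w ∈ R ∧ R ≤ cent w ∧
      (∀ r ∈ R, (∀ r' ∈ R, r * r' = r' * r) → r ∈ Subgroup.zpowers w) ∧
      Nat.card ↥(Subgroup.normalizer (R : Set G)) = 216 := by
  classical
  haveI : Fact (Nat.Prime 3) := ⟨Nat.prime_three⟩
  obtain ⟨h1080, φ, hφ, hk⟩ := S.cent_three hw hc
  haveI := card_alt_six.2
  obtain ⟨hno4, hno9, hnoSelf⟩ := simple_360 (H := alternatingGroup (Fin 6)) card_alt_six.1
  obtain ⟨PW, hPW⟩ : ∃ PW : Sylow 3 (cent w), True := ⟨default, trivial⟩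
  set R := (PW : Subgroup (cent w)).map (cent w).subtype with hR
  have hR27 : Nat.card R = 27 := by
    rw [hR, Subgroup.card_map_of_injective (cent w).subtype_injective]
    exact (sylow_card (k := 3) (m := 40) PW (by rw [h1080]; norm_num) (by norm_num)).trans
      (by norm_num)
  have hRC : R ≤ cent w := Subgroup.map_subtype_le _
  have hwR : w ∈ R := by
    obtain ⟨c, hcw, hcm⟩ := exists_conj_mem (p := 3) (k := 3) (j := 1) (self_mem_cent w)
      (by rw [pow_one, ← hw, pow_orderOf_eq_one]) hRC (by rw [hR27]; norm_num)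
      (by rw [h1080]; norm_num)
    rwa [mem_cent.1 hcw, mul_inv_cancel_right] at hcm
  have hna : ¬ IsMulCommutative R := by
    intro hcomm
    obtain ⟨y, hyt, hy⟩ := S.exists_three (Or.inr rfl)
    obtain ⟨c, -, hcm⟩ := exists_conj_mem (p := 3) (k := 3) (j := 1) (K := (⊤ : Subgroup G))
      (Subgroup.mem_top y) (by rw [pow_one, ← hy, pow_orderOf_eq_one]) le_top
      (by rw [hR27]; norm_num) (by rw [Subgroup.card_top, S.card]; norm_num)
    refine (S.conj_t c).not_dvd_cent_t_three ((orderOf_conj' c y).trans hy) (conj_mem_cent hyt) ?_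
    rw [← hR27]
    exact Subgroup.card_dvd_of_le fun r hr => mem_cent.2
      (congrArg Subtype.val (hcomm.is_comm.comm ⟨r, hr⟩ ⟨_, hcm⟩))
  have hRp : IsPGroup 3 R := IsPGroup.of_card (n := 3) (by rw [hR27]; norm_num)
  obtain ⟨hZ3, hRe⟩ := CfsgLib.Alperin.extraspecial_of_card_cube hRp hna
    (by rw [hR27]; norm_num)
  have hcen : ∀ r ∈ R, (∀ r' ∈ R, r * r' = r' * r) → r ∈ Subgroup.zpowers w := by
    intro r hr hall
    have hwZ : (⟨w, hwR⟩ : R) ∈ Subgroup.center R :=
      Subgroup.mem_center_iff.2 fun a => Subtype.ext (mem_cent.1 (hRC a.2))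
    have hne : (⟨w, hwR⟩ : R) ≠ 1 := fun h => by
      have : w = 1 := congrArg Subtype.val h
      rw [this, orderOf_one] at hw
      omega
    have heq := zpowers_eq_of_card Nat.prime_three hZ3 hwZ hne
    have hrZ : (⟨r, hr⟩ : R) ∈ Subgroup.center R :=
      Subgroup.mem_center_iff.2 fun a => Subtype.ext (hall a a.2).symm
    rw [← heq] at hrZ
    obtain ⟨i, hi⟩ := hrZ
    exact ⟨i, congrArg Subtype.val hi⟩
  refine ⟨R, hR27, hRe, hwR, hRC, hcen, ?_⟩
  -- the normalizer
  set N := Subgroup.normalizer (R : Set G) with hN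
  obtain ⟨n, hn3, hcount⟩ := exists_count (p := 3) (k := 3) hRC (by rw [hR27]; norm_num)
    (by rw [h1080]; norm_num)
  rw [h1080, inf_comm, ← hN] at hcount
  set RW := R.subgroupOf (cent w) with hRW
  have hRW27 : Nat.card RW = 27 :=
    (Nat.card_congr (Subgroup.subgroupOfEquivOfLe hRC).toEquiv).trans hR27
  have hker : φ.ker ≤ RW := fun x hx => Subgroup.mem_subgroupOf.2
    (Subgroup.zpowers_le.2 hwR ((hk x).1 hx))
  have hker3 : Nat.card φ.ker = 3 := by
    have := φ.ker.card_mul_index
    rw [Subgroup.index_ker, MonoidHom.range_eq_top.2 hφ, Subgroup.card_top, card_alt_six.1, h1080]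
      at this
    omega
  have himg : ∀ K : Subgroup (cent w), φ.ker ≤ K → 3 * Nat.card (K.map φ) = Nat.card K := by
    intro K hK
    have h1 := (K.map φ).card_mul_index
    rw [Subgroup.index_map_eq K hφ hK, card_alt_six.1] at h1
    have h2 := K.card_mul_index
    rw [h1080, show 1080 = 3 * 360 from rfl, ← h1, ← mul_assoc] at h2
    exact (mul_right_cancel₀ K.index_ne_zero_of_finite h2).symm
  have hN108 : Nat.card ↥(N ⊓ cent w) = 108 := by
    obtain ⟨a, ha⟩ : 27 ∣ Nat.card ↥(N ⊓ cent w) := by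
      rw [← hR27]
      exact Subgroup.card_dvd_of_le (le_inf Subgroup.le_normalizer hRC)
    rw [ha] at hcount ⊢
    have han : a * n = 40 := by
      have : 27 * (a * n) = 27 * 40 := by rw [← mul_assoc, ← hcount]
      omega
    set NW := N.subgroupOf (cent w) with hNW
    have hNWc : Nat.card NW = 27 * a := by
      rw [← ha]
      exact Nat.card_congr
        { toFun := fun x => ⟨((x : cent w) : G), x.2, (x : cent w).2⟩
          invFun := fun x => ⟨⟨x, x.2.2⟩, x.2.1⟩
          left_inv := fun x => rfl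
          right_inv := fun x => rfl }
    have hkerN : φ.ker ≤ NW := fun x hx =>
      Subgroup.mem_subgroupOf.2 (Subgroup.le_normalizer (hker hx))
    have hn1 : n ≠ 1 := by
      rintro rfl
      have hle : cent w ≤ N := by
        have h1 : N ⊓ cent w = cent w :=
          Subgroup.eq_of_le_of_card_ge inf_le_right (by rw [h1080, ha]; omega)
        exact h1 ▸ inf_le_left
      refine hno9 (RW.map φ) (Subgroup.Normal.map ⟨fun x hx c => ?_⟩ φ hφ) ?_
      · rw [hRW, Subgroup.mem_subgroupOf] at hx ⊢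
        exact (Subgroup.mem_normalizer_iff.1 (hle c.2) _).1 hx
      · have := himg RW hker
        omega
    have hn4 : n ≠ 4 := by
      rintro rfl
      refine hno4 (NW.map φ) ?_
      rw [Subgroup.index_map_eq NW hφ hkerN]
      have := NW.card_mul_index
      rw [hNWc, h1080] at this
      obtain rfl : a = 10 := by omega
      omega
    have hn40 : n ≠ 40 := by
      rintro rfl
      refine hnoSelf (RW.map φ) (by have := himg RW hker; omega) ?_
      refine le_antisymm ?_ Subgroup.le_normalizer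
      intro x hx
      obtain ⟨c, rfl⟩ := hφ x
      refine ⟨c, ?_, rfl⟩
      have hcN : (c : G) ∈ N := by
        refine Subgroup.mem_normalizer_fintype fun r hr => ?_
        have h1 := (Subgroup.mem_normalizer_iff.1 hx (φ ⟨r, hRC hr⟩)).1
          ⟨⟨r, hRC hr⟩, hr, rfl⟩
        obtain ⟨s, hs, hse⟩ := h1
        have h2 : φ (s⁻¹ * (c * ⟨r, hRC hr⟩ * c⁻¹)) = 1 := by
          simp only [map_mul, map_inv, hse]
          group
        have h3 := RW.mul_mem hs (hker h2)
        rw [mul_inv_cancel_left] at h3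
        exact h3
      have h1 : N ⊓ cent w = R := (Subgroup.eq_of_le_of_card_ge (le_inf Subgroup.le_normalizer hRC)
        (by rw [ha, hR27]; omega)).symm
      exact Subgroup.mem_subgroupOf.2 (h1.le ⟨hcN, c.2⟩)
    have hn40' : n ≤ 40 := Nat.le_of_dvd (by norm_num) ⟨a, by rw [← han, mul_comm]⟩
    have hd : n ∣ 40 := ⟨a, by rw [← han, mul_comm]⟩
    interval_cases n <;> omega
  have horb := card_conj_orbit N w
  rw [hN108] at horb
  have hle2 : Nat.card {x : G // ∃ n ∈ N, n * w * n⁻¹ = x} ≤ 2 := by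
    change Nat.card ({x | ∃ n ∈ N, n * w * n⁻¹ = x} : Set G) ≤ 2
    rw [Nat.card_coe_set_eq]
    refine (Set.ncard_le_ncard (t := ({w, w⁻¹} : Set G)) ?_).trans
      ((Set.ncard_insert_le _ _).trans (by rw [Set.ncard_singleton]))
    rintro _ ⟨m, hm, rfl⟩
    have hmw : m * w * m⁻¹ ∈ Subgroup.zpowers w := by
      refine hcen _ ((Subgroup.mem_normalizer_iff.1 hm w).1 hwR) fun r hr => ?_
      have hr' : m⁻¹ * r * m ∈ R := by
        have := (Subgroup.mem_normalizer_iff.1 (inv_mem hm) r).1 hr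
        rwa [inv_inv] at this
      have h1 : m⁻¹ * r * m * w = w * (m⁻¹ * r * m) := mem_cent.1 (hRC hr')
      calc m * w * m⁻¹ * r = m * (w * (m⁻¹ * r * m)) * m⁻¹ := by group
        _ = m * (m⁻¹ * r * m * w) * m⁻¹ := by rw [h1]
        _ = r * (m * w * m⁻¹) := by group
    exact conj_cases_three hw (mem_normalizer_zpowers hmw)
  obtain ⟨k, hk3, hkc⟩ := exists_count (p := 3) (k := 3) (le_top : R ≤ ⊤) (by rw [hR27]; norm_num)
    (by rw [Subgroup.card_top, S.card]; norm_num)
  rw [Subgroup.card_top, S.card, top_inf_eq, ← hN, horb] at hkc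
  rw [horb]
  generalize Nat.card {x : G // ∃ n ∈ N, n * w * n⁻¹ = x} = m at hle2 hkc ⊢
  interval_cases m <;> omega

/-- Every element of order three is conjugate to one commuting with `z` or with `t`. -/
theorem three_classes {w y : G} (hw : orderOf w = 3) (hwz : w ∈ cent z) (hy : orderOf y = 3)
    (hyt : y ∈ cent t) {c : G} (hc : orderOf c = 3) : IsConj c w ∨ IsConj c y := by
  classical
  haveI : Fact (Nat.Prime 3) := ⟨Nat.prime_three⟩
  haveI : Fact (Nat.Prime 2) := ⟨Nat.prime_two⟩
  obtain ⟨R, hR27, hRe, hwR, hRC, hcen, hN216⟩ := S.three_local hw hwz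
  have hconjR : ∀ a : G, orderOf a = 3 → ∃ g : G, g * a * g⁻¹ ∈ R := fun a ha => by
    obtain ⟨g, -, hg⟩ := exists_conj_mem (p := 3) (k := 3) (j := 1) (K := (⊤ : Subgroup G))
      (Subgroup.mem_top a) (by rw [pow_one, ← ha, pow_orderOf_eq_one]) le_top
      (by rw [hR27]; norm_num) (by rw [Subgroup.card_top, S.card]; norm_num)
    exact ⟨g, hg⟩
  obtain ⟨g, hgR⟩ := hconjR c hc
  suffices h : IsConj (g * c * g⁻¹) w ∨ IsConj (g * c * g⁻¹) y from
    h.imp (fun h => (isConj_conj g c).trans h) fun h => (isConj_conj g c).trans h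
  have hc' : orderOf (g * c * g⁻¹) = 3 := (orderOf_conj' g c).trans hc
  generalize g * c * g⁻¹ = a at hc' hgR ⊢
  by_cases haw : a ∈ Subgroup.zpowers w
  · left
    have ha1 : a ≠ 1 := fun h => by rw [h, orderOf_one] at hc'; omega
    rw [mem_zpowers_iff_mem_range_orderOf, hw] at haw
    obtain ⟨i, hi, hie⟩ := Finset.mem_image.1 haw
    rw [Finset.mem_range] at hi
    interval_cases i
    · exact absurd (hie.symm.trans (pow_zero w)) ha1
    · rw [← hie, pow_one]
    · rw [← hie, show w ^ 2 = w⁻¹ by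
        rw [eq_inv_iff_mul_eq_one, ← pow_succ, show 2 + 1 = orderOf w by rw [hw], pow_orderOf_eq_one]]
      exact (S.isConj_inv (Or.inl rfl) hw hwz).symm
  set N := Subgroup.normalizer (R : Set G) with hN
  by_cases h2 : 2 ∣ Nat.card ↥(N ⊓ cent a)
  · obtain ⟨v', hv'⟩ := exists_prime_orderOf_dvd_card' (G := ↥(N ⊓ cent a)) 2 h2
    have hv : orderOf (v' : G) = 2 := by rw [Subgroup.orderOf_coe]; exact hv'
    have hav : a ∈ cent (v' : G) := comm_of_mem_cent v'.2.2
    rcases S.cls _ hv with h | h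
    · exact Or.inl (S.isConj_three (Or.inl rfl) hw hwz hc' h hav)
    · exact Or.inr (S.isConj_three (Or.inr rfl) hy hyt hc' h hav)
  · right
    set T := N ⊓ cent a with hT
    obtain ⟨e, he⟩ := Subgroup.card_dvd_of_le (inf_le_left : T ≤ N)
    rw [hN216] at he
    have h27 : Nat.card T ∣ 27 :=
      ((Nat.prime_two.coprime_iff_not_dvd.2 h2).symm.pow_right 3).dvd_of_dvd_mul_left
        (show Nat.card T ∣ 2 ^ 3 * 27 from ⟨e, by rw [← he]⟩)
    have hRN : R ≤ N := Subgroup.le_normalizer
    haveI hnorm : (R.subgroupOf N).Normal := Subgroup.normal_in_normalizer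
    have hidx : (R.subgroupOf N).index = 8 := by
      have := (R.subgroupOf N).card_mul_index
      rw [Nat.card_congr (Subgroup.subgroupOfEquivOfLe hRN).toEquiv, hR27, hN216] at this
      omega
    have hTR : T ≤ R := by
      intro x hx
      have h8 := Subgroup.pow_index_mem (R.subgroupOf N) (⟨x, hx.1⟩ : N)
      rw [hidx, Subgroup.mem_subgroupOf] at h8
      have hx27 : x ^ 27 = 1 :=
        orderOf_dvd_iff_pow_eq_one.1 ((Subgroup.orderOf_dvd_natCard T hx).trans h27)
      have h8' : x ^ 8 ∈ R := h8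
      have := R.pow_mem h8' 17
      rwa [← pow_mul, show 8 * 17 = 27 * 5 + 1 from rfl, pow_succ, pow_mul, hx27, one_pow,
        one_mul] at this
    have hT9 : Nat.card T ≤ 9 := by
      obtain ⟨k, hk, hkT⟩ := (Nat.dvd_prime_pow Nat.prime_three).1
        (show Nat.card T ∣ 3 ^ 3 by simpa using h27)
      have hne : Nat.card T ≠ 27 := fun h27' => by
        have hTe : T = R := Subgroup.eq_of_le_of_card_ge hTR (by rw [h27', hR27])
        exact haw (hcen a hgR fun r hr => (mem_cent.1 ((hTe.ge hr : r ∈ T)).2).symm)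
      have hk2 : k ≤ 2 := by
        by_contra hgt
        exact hne (by rw [hkT, show k = 3 by omega]; norm_num)
      rw [hkT]
      exact Nat.pow_le_pow_right (by norm_num) hk2
    have horb := card_conj_orbit N a
    rw [hN216, ← hT] at horb
    have hO24 : 24 ≤ Nat.card {x : G // ∃ n ∈ N, n * a * n⁻¹ = x} := by
      have := Nat.mul_le_mul_right (Nat.card {x : G // ∃ n ∈ N, n * a * n⁻¹ = x}) hT9
      omega
    set O : Set G := {x | ∃ n ∈ N, n * a * n⁻¹ = x} with hO
    have hOsub : O ⊆ (R : Set G) \ (Subgroup.zpowers w : Set G) := by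
      rintro _ ⟨n, hn, rfl⟩
      refine ⟨(Subgroup.mem_normalizer_iff.1 hn a).1 hgR, fun h => haw ?_⟩
      refine hcen a hgR fun r hr => ?_
      have h1 : n * a * n⁻¹ * (n * r * n⁻¹) = n * r * n⁻¹ * (n * a * n⁻¹) := by
        have hrn : n * r * n⁻¹ ∈ R := (Subgroup.mem_normalizer_iff.1 hn r).1 hr
        obtain ⟨i, hi⟩ := h
        rw [← hi]
        exact ((show Commute (n * r * n⁻¹) w from mem_cent.1 (hRC hrn)).zpow_right i).eq.symm
      calc a * r = n⁻¹ * (n * a * n⁻¹ * (n * r * n⁻¹)) * n := by group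
        _ = n⁻¹ * (n * r * n⁻¹ * (n * a * n⁻¹)) * n := by rw [h1]
        _ = r * a := by group
    have heq : O = (R : Set G) \ (Subgroup.zpowers w : Set G) := by
      refine Set.eq_of_subset_of_ncard_le hOsub ?_
      rw [Set.ncard_diff (show (Subgroup.zpowers w : Set G) ⊆ R from Subgroup.zpowers_le.2 hwR),
        ← Nat.card_coe_set_eq, ← Nat.card_coe_set_eq, ← Nat.card_coe_set_eq O,
        show Nat.card (R : Set G) = 27 from hR27,
        show Nat.card (Subgroup.zpowers w : Set G) = 3 from (Nat.card_zpowers w).trans hw]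
      exact hO24
    obtain ⟨g', hg'⟩ := hconjR y hy
    have hyo : g' * y * g'⁻¹ ∈ O := by
      rw [heq]
      exact ⟨hg', fun h => S.not_both (Or.inl rfl) ((orderOf_conj' g' y).trans hy) (IsConj.refl z)
        (Subgroup.zpowers_le.2 hwz h) (isConj_conj g' t) (conj_mem_cent hyt)⟩
    obtain ⟨n, -, hn⟩ := hyo
    exact ((isConj_conj n a).trans (hn ▸ IsConj.refl _)).trans (isConj_conj g' y).symm

/-- The Sylow `3`-subgroups and the classes of elements of order three. -/
theorem three_main (P : Sylow 3 G) :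
    IsExtraspecial 3 (P : Subgroup G) ∧ Nat.card P = 27 ∧
    Nat.card (Subgroup.normalizer ((P : Subgroup G) : Set G)) = 216 ∧
    ∃ a b : G, orderOf a = 3 ∧ orderOf b = 3 ∧ ¬ IsConj a b ∧
      ∀ c : G, orderOf c = 3 → IsConj c a ∨ IsConj c b := by
  haveI : Fact (Nat.Prime 3) := ⟨Nat.prime_three⟩
  obtain ⟨w, hwz, hw⟩ := S.exists_three (Or.inl rfl)
  obtain ⟨y, hyt, hy⟩ := S.exists_three (Or.inr rfl)
  obtain ⟨R, hR27, hRe, -, -, -, hN⟩ := S.three_local hw hwz
  have hP27 : Nat.card (P : Subgroup G) = 27 :=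
    (sylow_card (k := 3) (m := 22400) P (by rw [S.card]; norm_num) (by norm_num)).trans (by norm_num)
  obtain ⟨c, -, hc⟩ := exists_conj_le (p := 3) (k := 3) (K := (⊤ : Subgroup G)) (A := R) le_top
    (IsPGroup.of_card (n := 3) (by rw [hR27]; norm_num)) (le_top : (P : Subgroup G) ≤ ⊤)
    (by rw [hP27]; norm_num) (by rw [Subgroup.card_top, S.card]; norm_num)
  have hmap : R.map (MulAut.conj c).toMonoidHom = (P : Subgroup G) := by
    refine Subgroup.eq_of_le_of_card_ge (by rintro _ ⟨r, hr, rfl⟩; exact hc r hr) ?_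
    have h1 := Nat.card_congr
      (R.equivMapOfInjective (MulAut.conj c).toMonoidHom (MulAut.conj c).injective).toEquiv
    rw [← h1, hR27]
    exact hP27.le
  refine ⟨?_, hP27, ?_, w, y, hw, hy, fun h => ?_, fun c hc => S.three_classes hw hwz hy hyt hc⟩
  · exact CfsgLib.PGroups.IsExtraspecial.of_mulEquiv
      ((R.equivMapOfInjective _ (MulAut.conj c).injective).trans (MulEquiv.subgroupCongr hmap)) hRe
  · rw [← hmap]
    have h1 := Subgroup.map_equiv_normalizer_eq R (MulAut.conj c)
    refine Eq.trans ?_ hN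
    refine Eq.trans (congrArg (fun K : Subgroup G => Nat.card K) h1.symm) ?_
    exact Nat.card_congr (((Subgroup.normalizer (R : Set G)).equivMapOfInjective _
      (MulAut.conj c).injective).toEquiv).symm
  · obtain ⟨g, hg⟩ := isConj_iff.1 h
    exact S.not_both (Or.inl rfl) hy (isConj_conj g z) (hg ▸ conj_mem_cent hwz) (IsConj.refl t) hyt

end CfsgLib.InvChar.HJSylow.Setting
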