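import Cfsg.Agent.Lib.InvChar.HallJankoSylow.Fuse
import Cfsg.Agent.Lib.InvChar.HallJankoSylow.Small
import Cfsg.Agent.S3035
import Cfsg.Agent.Lib.SmallGroups.Order168

/-!
The centralizer of an element of order three commuting with `z`.
-/

set_option autoImplicit false
set_option linter.style.haveILetI false
set_option linter.unusedSectionVars false

open Cfsg

namespace CfsgLib.InvChar.HJSylow

variable {G : Type*} [Group G] [Finite G]

theorem normal_zpowers_cent (w : G) : ((Subgroup.zpowers w).subgroupOf (cent w)).Normal :=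
  ⟨fun x hx c => by
    rw [Subgroup.mem_subgroupOf] at hx ⊢
    obtain ⟨i, hi⟩ := hx
    refine ⟨i, ?_⟩
    change w ^ i = c * x * (c : G)⁻¹
    rw [← hi]
    exact ((Commute.zpow_right (mem_cent.1 c.2 : Commute (c : G) w) i).mul_inv_cancel).symm⟩

namespace Setting

variable {z t : G} {Q : Subgroup G} (S : Setting z t Q)
include S

/-- The order of a centralizer of an element of order three of `C(t)` is prime to `27`. -/
theorem not_dvd_cent_t_three {y : G} (hy : orderOf y = 3) (hc : y ∈ cent t) :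
    ¬ 27 ∣ Nat.card (cent y) := by
  rcases S.t_cases (Or.inl rfl) hy hc with h | h | ⟨φ, hφ, hk⟩
  · rw [h]; norm_num
  · rw [h]; norm_num
  · have hker : Nat.card φ.ker = 3 := by
      refine Eq.trans ?_ ((Nat.card_zpowers y).trans hy)
      exact Nat.card_congr
        { toFun := fun x => ⟨((x : cent y) : G), (hk _).1 x.2⟩
          invFun := fun x => ⟨⟨x, Subgroup.zpowers_le.2 (self_mem_cent y) x.2⟩, (hk _).2 x.2⟩
          left_inv := fun x => rfl
          right_inv := fun x => rfl }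
    rw [← φ.ker.card_mul_index, Subgroup.index_ker, MonoidHom.range_eq_top.2 hφ, Subgroup.card_top,
      hker, card_alt_five]
    norm_num

/-- The quotient `C(w) / ⟨w⟩` is `SL₃(2)` or `A₆`. -/
theorem cent_three_hom {w : G} (hw : orderOf w = 3) (hc : w ∈ cent z) :
    (∃ φ : cent w →* Matrix.SpecialLinearGroup (Fin 3) (ZMod 2),
      Function.Surjective φ ∧ ∀ c, φ c = 1 ↔ (c : G) ∈ Subgroup.zpowers w) ∨
    (∃ φ : cent w →* alternatingGroup (Fin 6),
      Function.Surjective φ ∧ ∀ c, φ c = 1 ↔ (c : G) ∈ Subgroup.zpowers w) := by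
  classical
  haveI : Fact (Nat.Prime 2) := ⟨Nat.prime_two⟩
  haveI := normal_zpowers_cent w
  set N := (Subgroup.zpowers w).subgroupOf (cent w) with hNdef
  let π := QuotientGroup.mk' N
  have hπ : ∀ c : cent w, π c = 1 ↔ (c : G) ∈ Subgroup.zpowers w := fun c =>
    (QuotientGroup.eq_one_iff c).trans Subgroup.mem_subgroupOf
  have hπs : Function.Surjective π := QuotientGroup.mk'_surjective N
  have hw3 : w ^ 3 = 1 := hw ▸ pow_orderOf_eq_one w
  have hcube : ∀ a : G, a ∈ Subgroup.zpowers w → a ^ 3 = 1 := by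
    rintro _ ⟨i, rfl⟩
    change (w ^ i) ^ 3 = 1
    rw [← zpow_natCast (w ^ i), ← zpow_mul, mul_comm, zpow_mul, zpow_natCast, hw3, one_zpow]
  have hsmall : ∀ a : G, a ∈ Subgroup.zpowers w → a * a = 1 → a = 1 := fun a ha h2 => by
    have := hcube a ha
    rwa [pow_three', h2, one_mul] at this
  let zs : cent w := ⟨z, comm_of_mem_cent hc⟩
  have hz1 : π zs ≠ 1 := fun h => S.z_ne (hsmall z ((hπ zs).1 h) S.zz)
  have hz2 : orderOf (π zs) = 2 := orderOf_eq_prime
    (by rw [← map_pow, (show zs ^ 2 = 1 from Subtype.ext (by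
      rw [Subgroup.coe_pow, sq]; exact S.zz)), map_one]) hz1
  -- involutions of the quotient
  have hinv : ∀ a : cent w ⧸ N, orderOf a = 2 → IsConj (π zs) a := by
    intro a ha
    obtain ⟨x, rfl⟩ := hπs a
    have hx2 : (x : G) * x ∈ Subgroup.zpowers w := by
      refine (hπ (x * x)).1 ?_
      rw [map_mul, ← sq, ← ha, pow_orderOf_eq_one]
    have hy : π (x ^ 3) = π x := by
      rw [map_pow, pow_three', ← sq, show π x ^ 2 = 1 from ha ▸ pow_orderOf_eq_one (π x), one_mul]
    have hy2 : ((x ^ 3 : cent w) : G) * ((x ^ 3 : cent w) : G) = 1 := by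
      have := hcube _ hx2
      rw [← this, Subgroup.coe_pow, ← sq, ← sq, ← pow_mul, ← pow_mul]
    have hyne : ((x ^ 3 : cent w) : G) ≠ 1 := fun h => by
      have : (x ^ 3 : cent w) = 1 := Subtype.ext h
      rw [this, map_one] at hy
      rw [← hy, orderOf_one] at ha
      omega
    obtain ⟨u, hu, hux⟩ := S.cent_three_involutions hw hc
      (orderOf_eq_prime (by rw [sq]; exact hy2) hyne) (x ^ 3 : cent w).2
    refine isConj_iff.2 ⟨π ⟨u, hu⟩, ?_⟩
    rw [← hy, ← map_inv, ← map_mul, ← map_mul]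
    exact congrArg π (Subtype.ext hux)
  -- the centralizer of the image of `z`
  set D := Q ⊓ cent w with hD
  have hD8 : Nat.card D = 8 := S.card_Q_cent_three hw hc
  let ψ : D →* cent w ⧸ N := π.comp (Subgroup.inclusion (inf_le_right : D ≤ cent w))
  have hψi : Function.Injective ψ := by
    rw [← MonoidHom.ker_eq_bot_iff, Subgroup.eq_bot_iff_forall]
    intro d hd
    have h1 := hcube _ ((hπ _).1 hd)
    have h2 : (d : G) ^ 8 = 1 := orderOf_dvd_iff_pow_eq_one.1
      (hD8 ▸ Subgroup.orderOf_dvd_natCard D d.2)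
    refine Subtype.ext ?_
    have h3 : (d : G) ^ Nat.gcd 3 8 = 1 := pow_gcd_eq_one.2 ⟨h1, h2⟩
    simpa using h3
  have hrange : ψ.range = cent (π zs) := by
    refine le_antisymm ?_ fun a ha => ?_
    · rintro _ ⟨d, rfl⟩
      rw [mem_cent]
      change π _ * π zs = π zs * π _
      rw [← map_mul, ← map_mul]
      exact congrArg π (Subtype.ext (mem_cent.1 (S.Q_le d.2.1)))
    · obtain ⟨x, rfl⟩ := hπs a
      have h1 : π (x * zs * x⁻¹ * zs⁻¹) = 1 := by
        simp only [map_mul, map_inv]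
        rw [mem_cent.1 ha, mul_inv_cancel_right, mul_inv_cancel]
      have h2 := (hπ _).1 h1
      set e : G := (x : G) * z * (x : G)⁻¹ * z⁻¹ with he
      have h2' : e ∈ Subgroup.zpowers w := h2
      obtain ⟨i, hi⟩ := h2'
      have hi' : w ^ i = e := hi
      have hze : Commute z e := hi' ▸ (show Commute z w from mem_cent.1 (comm_of_mem_cent hc)).zpow_right i
      have hxz : (x : G) * z * (x : G)⁻¹ = e * z := by rw [he]; group
      have h4 : e * z * (e * z) = 1 := by
        rw [← hxz, show (x : G) * z * (x : G)⁻¹ * ((x : G) * z * (x : G)⁻¹) =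
          x * (z * z) * (x : G)⁻¹ by group, S.zz, mul_one, mul_inv_cancel]
      have h5 : e * e = 1 := by
        rw [show e * z * (e * z) = e * (z * e) * z by group, hze.eq,
          show e * (e * z) * z = e * e * (z * z) by group, S.zz, mul_one] at h4
        exact h4
      have he1 : e = 1 := hsmall e ⟨i, hi⟩ h5
      rw [he1, one_mul, mul_inv_eq_iff_eq_mul] at hxz
      have hxc : (x : G) ∈ cent z ⊓ cent w := ⟨mem_cent.2 hxz, x.2⟩
      have hcard := (S.z_cent (Or.inl rfl) hw hc).1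
      rw [S.card_Q_cent_three hw hc] at hcard
      have h24 : (x : G) ^ 24 = 1 := by
        have h := Subgroup.orderOf_dvd_natCard _ hxc
        rw [hcard] at h
        exact orderOf_dvd_iff_pow_eq_one.1 h
      have hx16 : (x : G) ^ 9 ∈ D := by
        refine ⟨(S.z_cent (Or.inl rfl) hw hc).2.2.2 _ (pow_mem hxc 9) ?_, pow_mem x.2 9⟩
        rw [← pow_mul, show 9 * 32 = 24 * 12 from rfl, pow_mul, h24, one_pow]
      have hx16' : (x : G) ^ 16 ∈ Subgroup.zpowers w := by
        have hcube' : ((x : G) ^ 16) ^ 3 = 1 := by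
          rw [← pow_mul, show 16 * 3 = 24 * 2 from rfl, pow_mul, h24, one_pow]
        obtain ⟨c, hcm, hcx⟩ := exists_conj_mem (p := 3) (j := 1) (k := 1)
          (K := cent z ⊓ cent w) (pow_mem hxc 16) (by rw [pow_one]; exact hcube')
          (Subgroup.zpowers_le.2 ⟨hc, self_mem_cent w⟩)
          (by rw [Nat.card_zpowers, hw, pow_one]) (by rw [hcard]; norm_num)
        obtain ⟨j, hj⟩ := hcx
        refine ⟨j, ?_⟩
        change w ^ j = (x : G) ^ 16
        have hj' : w ^ j = c * (x : G) ^ 16 * c⁻¹ := hj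
        have hcj : c⁻¹ * w ^ j * c = w ^ j := by
          rw [mul_assoc, ← ((show Commute c w from mem_cent.1 hcm.2).zpow_right j).eq, inv_mul_cancel_left]
        rw [← hcj, hj']
        group
      refine ⟨⟨(x : G) ^ 9, hx16⟩, ?_⟩
      change π ⟨(x : G) ^ 9, _⟩ = π x
      have hπ16 : π (x ^ 16) = 1 := (hπ _).2 (by rw [Subgroup.coe_pow]; exact hx16')
      calc π ⟨(x : G) ^ 9, _⟩ = π (x ^ 9) := congrArg π (Subtype.ext (Subgroup.coe_pow _ _ _).symm)
        _ = π (x ^ 9) * π (x ^ 16) := by rw [hπ16, mul_one]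
        _ = π (x ^ 25) := by rw [← map_mul, ← pow_add]
        _ = π x := congrArg π (Subtype.ext (by rw [Subgroup.coe_pow, pow_succ, h24, one_mul]))
  obtain ⟨s, hs, hsw⟩ := S.exists_fixed hw hc
  obtain ⟨d, hd, hds⟩ := S.exists_noncomm hw hc hs.1 hs.2.2.1 hs.2.2.2 hsw
  have hzD : z ∈ D := ⟨S.z_mem, comm_of_mem_cent hc⟩
  have hsD : s ∈ D := ⟨hs.1, mem_cent.2 hsw⟩
  have hDna : ¬ IsMulCommutative D := fun h => by
    have h1 : d * s = s * d := congrArg Subtype.val (h.is_comm.comm ⟨d, hd⟩ ⟨s, hsD⟩)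
    rw [h1, mul_inv_cancel_right] at hds
    exact S.z_ne (mul_eq_right.1 hds.symm)
  obtain ⟨eD⟩ := dihedral_of_two_involutions hD8 hDna (a := ⟨z, hzD⟩) (b := ⟨s, hsD⟩)
    (Subtype.ext S.zz) (Subtype.ext hs.2.1) (fun h => S.z_ne (congrArg Subtype.val h))
    (fun h => hs.2.2.1 (congrArg Subtype.val h)) fun h => hs.2.2.2 (congrArg Subtype.val h).symm
  have hdih : Nonempty (↥(cent (π zs)) ≃* DihedralGroup 4) :=
    ⟨((MulEquiv.subgroupCongr hrange.symm).trans (MonoidHom.ofInjective hψi).symm).trans eD⟩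
  have hconj : ∀ a b : cent w ⧸ N, orderOf a = 2 → orderOf b = 2 → IsConj a b :=
    fun a b ha hb => (hinv a ha).symm.trans (hinv b hb)
  rcases Cfsg.Agent.S3035.result (π zs) hz2 hdih with h | h | h | he | he
  · exfalso
    let ss : cent w := ⟨s, hsD.2⟩
    have hsne : π ss ≠ 1 := fun h' => hs.2.2.1 (hsmall s ((hπ ss).1 h') hs.2.1)
    have hs2 : orderOf (π ss) = 2 := orderOf_eq_prime
      (by rw [← map_pow, (show ss ^ 2 = 1 from Subtype.ext (by
        rw [Subgroup.coe_pow, sq]; exact hs.2.1)), map_one]) hsne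
    have hne : π zs ≠ π ss := by
      intro h'
      have h1 : ψ ⟨z, hzD⟩ = ψ ⟨s, hsD⟩ := h'
      exact hs.2.2.2 (congrArg Subtype.val (hψi h1)).symm
    refine sup_oddCore_ne_top hz2 hs2 hne ?_ (hinv _ hs2) h
    rw [← map_mul, ← map_mul]
    exact congrArg π (Subtype.ext (mem_cent.1 (S.Q_le hs.1)).symm)
  · exact absurd h (not_perm_four (Or.inl rfl) hconj)
  · exact absurd h (not_perm_four (Or.inr rfl) hconj)
  · obtain ⟨e⟩ := he
    exact Or.inl ⟨e.toMonoidHom.comp π, e.surjective.comp hπs, fun c => by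
      change e (π c) = 1 ↔ _
      rw [MulEquiv.map_eq_one_iff, hπ]⟩
  · obtain ⟨e⟩ := he
    exact Or.inr ⟨e.toMonoidHom.comp π, e.surjective.comp hπs, fun c => by
      change e (π c) = 1 ↔ _
      rw [MulEquiv.map_eq_one_iff, hπ]⟩

theorem card_of_hom {w : G} (hw : orderOf w = 3) {K : Type*} [Group K] [Finite K]
    {φ : cent w →* K} (hφ : Function.Surjective φ)
    (hk : ∀ c, φ c = 1 ↔ (c : G) ∈ Subgroup.zpowers w) :
    Nat.card (cent w) = 3 * Nat.card K := by
  have hker : Nat.card φ.ker = 3 := by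
    refine Eq.trans ?_ ((Nat.card_zpowers w).trans hw)
    exact Nat.card_congr
      { toFun := fun x => ⟨((x : cent w) : G), (hk _).1 x.2⟩
        invFun := fun x => ⟨⟨x, Subgroup.zpowers_le.2 (self_mem_cent w) x.2⟩, (hk _).2 x.2⟩
        left_inv := fun x => rfl
        right_inv := fun x => rfl }
  rw [← φ.ker.card_mul_index, Subgroup.index_ker, MonoidHom.range_eq_top.2 hφ, Subgroup.card_top,
    hker]

/-- The quotient is not `SL₃(2)`. -/
theorem not_SL3 {w : G} (hw : orderOf w = 3) (hc : w ∈ cent z)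
    {φ : cent w →* Matrix.SpecialLinearGroup (Fin 3) (ZMod 2)} (hφ : Function.Surjective φ)
    (hk : ∀ c, φ c = 1 ↔ (c : G) ∈ Subgroup.zpowers w) : False := by
  classical
  obtain ⟨h168, hsimp⟩ := card_SL3_two
  haveI := hsimp
  haveI : Fact (Nat.Prime 2) := ⟨Nat.prime_two⟩
  haveI : Fact (Nat.Prime 3) := ⟨Nat.prime_three⟩
  haveI : Fact (Nat.Prime 5) := ⟨Nat.prime_five⟩
  haveI : Fact (Nat.Prime 7) := ⟨by norm_num⟩
  have h504 : Nat.card (cent w) = 504 := by rw [S.card_of_hom hw hφ hk, h168]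
  obtain ⟨d', hd'⟩ := exists_prime_orderOf_dvd_card' (G := cent w) 7 (by rw [h504]; norm_num)
  set d : G := (d' : G) with hdd
  have hd : orderOf d = 7 := by rw [hdd, Subgroup.orderOf_coe]; exact hd'
  have hdw : d ∈ cent w := d'.2
  have hφd : orderOf (φ d') = 7 := by
    rcases (show Nat.Prime 7 by norm_num).eq_one_or_self_of_dvd _ (hd' ▸ orderOf_map_dvd φ d') with h | h
    · exfalso
      have h1 := (hk d').1 (orderOf_eq_one_iff.1 h)
      have h2 := Subgroup.orderOf_dvd_natCard _ h1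
      rw [hd, Nat.card_zpowers, hw] at h2
      norm_num at h2
    · exact h
  -- the intersection of the centralizers
  set K := cent w ⊓ cent d with hK
  have hw3 : w ^ 3 = 1 := hw ▸ pow_orderOf_eq_one w
  have hd7 : d ^ 7 = 1 := hd ▸ pow_orderOf_eq_one d
  have hwd : Commute w d := (mem_cent.1 hdw : Commute d w).symm
  have hwd21 : orderOf (w * d) = 21 := by
    rw [hwd.orderOf_mul_eq_mul_orderOf_of_coprime (by rw [hw, hd]; norm_num), hw, hd]
  have hKmap : ∀ k ∈ K, ∀ hk' : k ∈ cent w, φ ⟨k, hk'⟩ ∈ cent (φ d') := fun k hk1 hk' => by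
    rw [mem_cent, ← map_mul, ← map_mul]
    exact congrArg φ (Subtype.ext (mem_cent.1 hk1.2))
  have hc7 : Nat.card ↥(cent (φ d')) = 7 :=
    SmallGroups.Order168.card_centralizer_seven h168 hφd
  have hK21 : K = Subgroup.zpowers (w * d) := by
    refine (Subgroup.eq_of_le_of_card_ge (Subgroup.zpowers_le.2 (Subgroup.mem_inf.2
      ⟨mul_mem (self_mem_cent w) hdw, mul_mem (mem_cent.2 hwd.eq) (self_mem_cent d)⟩)) ?_).symm
    rw [Nat.card_zpowers, hwd21]
    let χ : K →* cent (φ d') := (φ.comp (Subgroup.inclusion inf_le_left)).codRestrict _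
      fun k => hKmap k k.2 k.2.1
    have h1 : Nat.card χ.ker ≤ 3 := by
      refine le_trans ?_ ((Nat.card_zpowers w).trans hw).le
      refine Nat.card_le_card_of_injective (fun k => ⟨((k : K) : G), (hk ⟨_, k.1.2.1⟩).1
        (congrArg Subtype.val k.2)⟩) fun a b hab => ?_
      exact Subtype.ext (Subtype.ext (congrArg Subtype.val hab :))
    have h2 : χ.ker.index ≤ 7 := by
      rw [Subgroup.index_ker, ← hc7]
      exact Nat.card_le_card_of_injective _ Subtype.val_injective
    rw [← χ.ker.card_mul_index]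
    exact (Nat.mul_le_mul h1 h2)
  -- no involution centralizes `d`
  have hodd : ¬ 2 ∣ Nat.card (cent d) := fun h2 => by
    obtain ⟨x, hx⟩ := exists_prime_orderOf_dvd_card' (G := cent d) 2 h2
    have hx2 : orderOf (x : G) = 2 := by rw [Subgroup.orderOf_coe]; exact hx
    have h7 : 7 ∣ Nat.card (cent (x : G)) :=
      hd ▸ Subgroup.orderOf_dvd_natCard _ (comm_of_mem_cent x.2)
    rcases S.cls _ hx2 with h | h <;> obtain ⟨g, hg⟩ := isConj_iff.1 h
    · rw [← hg, card_cent_conj, S.card_cent_z] at h7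
      norm_num at h7
    · rw [← hg, card_cent_conj, S.card_cent_t] at h7
      norm_num at h7
  set L := Subgroup.zpowers d with hL
  have hL7 : Nat.card L = 7 := by rw [hL, Nat.card_zpowers, hd]
  have hLw : L ≤ cent w := Subgroup.zpowers_le.2 hdw
  set NL := Subgroup.normalizer (L : Set G) with hNL
  have hCN : cent d ≤ NL := fun a ha => mem_normalizer_zpowers (by
    rw [mem_cent.1 ha, mul_inv_cancel_right]; exact Subgroup.mem_zpowers d)
  -- Sylow counting in `C(w)`
  have h63 : 9 ∣ Nat.card NL := by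
    obtain ⟨n, hn7, hcard⟩ := exists_count (p := 7) (k := 1) hLw (by rw [hL7, pow_one])
      (by rw [h504]; norm_num)
    rw [h504, inf_comm, ← hNL] at hcard
    have h21 : 21 ∣ Nat.card ↥(NL ⊓ cent w) := by
      have h := Subgroup.card_dvd_of_le (le_inf (inf_le_right.trans hCN) inf_le_left :
        cent w ⊓ cent d ≤ NL ⊓ cent w)
      rwa [← hK, hK21, Nat.card_zpowers, hwd21] at h
    obtain ⟨a, ha⟩ := h21
    rw [ha] at hcard
    have han : a * n = 24 := by
      have : 21 * (a * n) = 21 * 24 := by rw [← mul_assoc, ← hcard]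
      omega
    have hn1 : n ≠ 1 := by
      rintro rfl
      have hle : cent w ≤ NL := by
        have h1 : NL ⊓ cent w = cent w :=
          Subgroup.eq_of_le_of_card_ge inf_le_right (by rw [h504, ha]; omega)
        exact h1 ▸ inf_le_left
      have hN : ((L.subgroupOf (cent w)).map φ).Normal := by
        refine Subgroup.Normal.map ⟨fun x hx c => ?_⟩ φ hφ
        rw [Subgroup.mem_subgroupOf] at hx ⊢
        exact (Subgroup.mem_normalizer_iff.1 (hle c.2) _).1 hx
      have hm : φ d' ∈ (L.subgroupOf (cent w)).map φ :=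
        ⟨d', Subgroup.mem_zpowers d, rfl⟩
      rcases hN.eq_bot_or_eq_top with h | h
      · rw [h, Subgroup.mem_bot] at hm
        rw [hm, orderOf_one] at hφd
        norm_num at hφd
      · have h2 : Nat.card ↥((L.subgroupOf (cent w)).map φ) ∣ 7 := by
          rw [← hL7, ← Nat.card_congr (Subgroup.subgroupOfEquivOfLe hLw).toEquiv]
          exact Subgroup.card_map_dvd _ _
        rw [h, Subgroup.card_top, h168] at h2
        norm_num at h2
    have hn8 : n = 8 := by
      have hn24 : n ≤ 24 := Nat.le_of_dvd (by norm_num) ⟨a, by rw [← han, mul_comm]⟩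
      interval_cases n <;> omega
    subst hn8
    obtain rfl : a = 3 := by omega
    exact (dvd_mul_right 9 7).trans ((by norm_num : 9 * 7 = 21 * 3) ▸ ha ▸
      Subgroup.card_dvd_of_le inf_le_left)
  -- the normalizer
  obtain ⟨n, hn7, hcard⟩ := exists_count (p := 7) (k := 1) (le_top : L ≤ ⊤) (by rw [hL7, pow_one])
    (by rw [Subgroup.card_top, S.card]; norm_num)
  rw [Subgroup.card_top, S.card, top_inf_eq, ← hNL] at hcard
  set M := cent d with hM
  have hwM : w ∈ M := comm_of_mem_cent hdw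
  have h21M : 21 ∣ Nat.card M := by
    have h : Nat.card K ∣ Nat.card M := Subgroup.card_dvd_of_le inf_le_right
    rwa [hK21, Nat.card_zpowers, hwd21] at h
  have h9M : ¬ 9 ∣ Nat.card M := by
    intro h9
    obtain ⟨P, hP⟩ := (IsPGroup.of_card (p := 3) (n := 1)
      ((Nat.card_zpowers (⟨w, hwM⟩ : M)).trans (by rw [Subgroup.orderOf_mk, hw, pow_one]))).exists_le_sylow
    obtain ⟨k, hk⟩ := IsPGroup.iff_card.1 P.2
    have hk2 : 2 ≤ k := by
      by_contra hk1
      have h := P.not_dvd_index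
      rw [← (P : Subgroup M).card_mul_index, hk] at h9
      interval_cases k
      · exact h ((dvd_mul_right 3 3).trans (by simpa using h9))
      · exact h ((Nat.mul_dvd_mul_iff_left (by norm_num : 0 < 3)).1 (by simpa using h9))
    haveI : Nontrivial (P : Subgroup M) := Finite.one_lt_card_iff_nontrivial.1 (by
      rw [hk]; exact Nat.one_lt_pow (by omega) (by norm_num))
    haveI := P.2.center_nontrivial
    obtain ⟨⟨c, hcc⟩, hc1⟩ := exists_ne (1 : Subgroup.center (P : Subgroup M))
    have hwP : (⟨w, hwM⟩ : M) ∈ (P : Subgroup M) := hP (Subgroup.mem_zpowers _)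
    have hcw : ((c : M) : G) * w = w * ((c : M) : G) :=
      congrArg (fun a : (P : Subgroup M) => ((a : M) : G))
        (Subgroup.mem_center_iff.1 hcc ⟨_, hwP⟩).symm
    have hcK : ((c : M) : G) ∈ K := ⟨mem_cent.2 hcw, (c : M).2⟩
    have h21' : ((c : M) : G) ^ 21 = 1 := by
      refine orderOf_dvd_iff_pow_eq_one.1 ?_
      have := Subgroup.orderOf_dvd_natCard _ hcK
      rwa [hK21, Nat.card_zpowers, hwd21] at this
    have hck : ((c : M) : G) ^ 3 ^ k = 1 := by
      have h := orderOf_dvd_iff_pow_eq_one.1 (hk ▸ Subgroup.orderOf_dvd_natCard _ c.2)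
      exact congrArg Subtype.val h
    have hc3 : ((c : M) : G) ^ 3 = 1 := by
      have hg : Nat.gcd 21 (3 ^ k) = 3 := by
        rw [show 21 = 3 * 7 from rfl, Nat.Coprime.gcd_mul_right_cancel 3
          (Nat.Coprime.pow_right k (by norm_num))]
        exact Nat.gcd_eq_left (dvd_pow_self 3 (by omega))
      have h := pow_gcd_eq_one.2 ⟨h21', hck⟩
      rwa [hg] at h
    have hczw : ((c : M) : G) ∈ Subgroup.zpowers w := by
      rw [hK21] at hcK
      obtain ⟨i, hi⟩ := hcK
      have hi' : (w * d) ^ i = ((c : M) : G) := hi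
      have h21i : (21 : ℤ) ∣ i * 3 := by
        have := (orderOf_dvd_iff_zpow_eq_one (x := w * d) (i := i * 3)).2 (by
          rw [zpow_mul, hi', show (3 : ℤ) = ((3 : ℕ) : ℤ) from rfl, zpow_natCast, hc3])
        rwa [hwd21] at this
      obtain ⟨j, hj⟩ : (7 : ℤ) ∣ i := by omega
      refine ⟨i, ?_⟩
      change w ^ i = _
      rw [← hi', hwd.mul_zpow]
      have : d ^ i = 1 := by
        rw [hj, zpow_mul, show (7 : ℤ) = ((7 : ℕ) : ℤ) from rfl, zpow_natCast, hd7, one_zpow]
      rw [this, mul_one]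
    have hwne : ((c : M) : G) ≠ 1 := fun h => hc1 (Subtype.ext (Subtype.ext (Subtype.ext h)))
    have hPw : ∀ p ∈ (P : Subgroup M), (p : G) ∈ K := by
      intro p hp
      refine ⟨?_, p.2⟩
      have h := congrArg (fun a : (P : Subgroup M) => ((a : M) : G))
        (Subgroup.mem_center_iff.1 hcc ⟨p, hp⟩)
      have hz := zpowers_eq_of_card Nat.prime_three ((Nat.card_zpowers w).trans hw) hczw hwne
      have hwc : w ∈ Subgroup.zpowers ((c : M) : G) := hz ▸ Subgroup.mem_zpowers w
      obtain ⟨i, hi⟩ := hwc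
      rw [← hi]
      exact mem_cent.2 (Commute.zpow_right (h : Commute (p : G) _) i).eq
    have h1 : Nat.card ↥((P : Subgroup M).map M.subtype) ∣ 21 := by
      rw [← hwd21, ← Nat.card_zpowers, ← hK21]
      exact Subgroup.card_dvd_of_le (by rintro _ ⟨p, hp, rfl⟩; exact hPw p hp)
    rw [Subgroup.card_map_of_injective M.subtype_injective, hk] at h1
    have h9' : 3 ^ 2 ∣ 21 := (pow_dvd_pow 3 hk2).trans h1
    norm_num at h9'
  -- the index of the centralizer in the normalizer
  have horb := card_conj_orbit NL d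
  rw [inf_eq_right.2 hCN] at horb
  have he : Nat.card {x : G // ∃ n ∈ NL, n * d * n⁻¹ = x} ≤ 6 := by
    change Nat.card ({x | ∃ n ∈ NL, n * d * n⁻¹ = x} : Set G) ≤ 6
    rw [Nat.card_coe_set_eq]
    refine (Set.ncard_le_ncard (t := (L : Set G) \ {1}) ?_).trans ?_
    · rintro _ ⟨n, hn, rfl⟩
      refine ⟨(Subgroup.mem_normalizer_iff.1 hn d).1 (Subgroup.mem_zpowers d), ?_⟩
      rintro (h : n * d * n⁻¹ = 1)
      rw [mul_inv_eq_one, mul_eq_left] at h
      rw [h, orderOf_one] at hd
      norm_num at hd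
    · rw [Set.ncard_diff_singleton_of_mem (one_mem L), ← Nat.card_coe_set_eq]
      exact (congrArg (· - 1) hL7).le
  generalize Nat.card {x : G // ∃ n ∈ NL, n * d * n⁻¹ = x} = e at horb he
  obtain ⟨m, hm⟩ := h21M
  have hm6 : 3 * m * e * n = 86400 := by
    rw [horb, hm] at hcard
    linarith
  have hmd : m ∣ 86400 := ⟨3 * e * n, by rw [← hm6]; ring⟩
  have hm2 : ¬ 2 ∣ m := fun h => hodd (hm ▸ h.mul_left 21)
  have hm3 : ¬ 3 ∣ m := fun h => h9M (hm ▸ (dvd_trans (by norm_num) (Nat.mul_dvd_mul_left 21 h)))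
  have hm25 : m ∣ 25 := by
    have hcop : Nat.Coprime m 3456 := by
      rw [show 3456 = 2 ^ 7 * 3 ^ 3 from rfl]
      exact Nat.Coprime.mul_right (((Nat.prime_two.coprime_iff_not_dvd).2 hm2).symm.pow_right 7)
        (((Nat.prime_three.coprime_iff_not_dvd).2 hm3).symm.pow_right 3)
    exact hcop.dvd_of_dvd_mul_left (show m ∣ 3456 * 25 from hmd)
  have hmod : 3 * m * e % 7 = 6 := by
    have h := Nat.mul_mod (3 * m * e) n 7
    rw [hm6, hn7, mul_one] at h
    omega
  have h3e : 3 ∣ e := by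
    rw [horb, hm] at h63
    have h1 : 3 * 3 ∣ 3 * (7 * (m * e)) := by
      convert h63 using 1; ring
    have h2 : 3 ∣ 7 * (m * e) := (Nat.mul_dvd_mul_iff_left (by norm_num : 0 < 3)).1 h1
    rcases (Nat.Prime.dvd_mul Nat.prime_three).1
      ((Nat.Coprime.dvd_mul_left (by norm_num : Nat.Coprime 3 7)).1 h2) with h | h
    · exact absurd h hm3
    · exact h
  have hm5 : m = 5 := by
    rcases (Nat.dvd_prime_pow Nat.prime_five).1 (show m ∣ 5 ^ 2 by simpa using hm25) with ⟨i, hi, rfl⟩
    interval_cases i <;> interval_cases e <;> omega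
  subst hm5
  -- an element of order five centralizing `w`
  obtain ⟨k, hk3, hkcard⟩ := exists_count (p := 3) (k := 1) (K := M)
    (Subgroup.zpowers_le.2 hwM) (by rw [Nat.card_zpowers, hw, pow_one]) (by rw [hm]; norm_num)
  rw [hm] at hkcard
  set NW := M ⊓ Subgroup.normalizer ((Subgroup.zpowers w : Subgroup G) : Set G) with hNW
  have h21W : 21 ∣ Nat.card NW := by
    have h := Subgroup.card_dvd_of_le (le_inf inf_le_right (inf_le_left.trans ?_) :
      cent w ⊓ cent d ≤ NW)
    · rwa [← hK, hK21, Nat.card_zpowers, hwd21] at h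
    · intro a ha
      exact mem_normalizer_zpowers (by
        rw [mem_cent.1 ha, mul_inv_cancel_right]; exact Subgroup.mem_zpowers w)
  have h5 : 5 ∣ Nat.card NW := by
    obtain ⟨b, hb⟩ := h21W
    rw [hb] at hkcard ⊢
    have hbk : b * k = 5 := by
      have : 21 * (b * k) = 21 * 5 := by rw [← mul_assoc, ← hkcard]
      omega
    rcases Nat.prime_five.eq_one_or_self_of_dvd k ⟨b, by rw [← hbk, mul_comm]⟩ with rfl | rfl
    · exact ⟨21, by omega⟩
    · omega
  obtain ⟨h', hh'⟩ := exists_prime_orderOf_dvd_card' (G := NW) 5 h5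
  set h : G := (h' : G) with hhd
  have hh : orderOf h = 5 := by rw [hhd, Subgroup.orderOf_coe]; exact hh'
  have hsq : h * h ∈ cent w := by
    refine mem_cent.2 (mul_inv_eq_iff_eq_mul.1 ?_)
    rcases conj_cases_three hw h'.2.2 with h1 | h1 <;>
      rw [show h * h * w * (h * h)⁻¹ = h * (h * w * h⁻¹) * h⁻¹ by group, h1]
    · rw [h1]
    · rw [← conj_inv, h1, inv_inv]
  have h5' : 5 ∣ Nat.card (cent w) := by
    have ho : orderOf (h * h) = 5 := by
      rw [← sq, Nat.Coprime.orderOf_pow, hh]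
      rw [hh]; norm_num
    exact ho ▸ Subgroup.orderOf_dvd_natCard _ hsq
  rw [h504] at h5'
  norm_num at h5'

/-- The centralizer of an element of order three commuting with `z`. -/
theorem cent_three {w : G} (hw : orderOf w = 3) (hc : w ∈ cent z) :
    Nat.card (cent w) = 1080 ∧ ∃ φ : cent w →* alternatingGroup (Fin 6),
      Function.Surjective φ ∧ ∀ c, φ c = 1 ↔ (c : G) ∈ Subgroup.zpowers w := by
  rcases S.cent_three_hom hw hc with ⟨φ, hφ, hk⟩ | ⟨φ, hφ, hk⟩
  · exact (S.not_SL3 hw hc hφ hk).elim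
  · exact ⟨by rw [S.card_of_hom hw hφ hk, card_alt_six.1], φ, hφ, hk⟩

end Setting

end CfsgLib.InvChar.HJSylow
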